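import Cfsg.Agent.Lib.Presented.J4Mult.Identities
import Cfsg.Agent.Lib.J4Rep.Rep

/-!
The images of three words in `x`, `y`, `t` are conjugates of images of words in `x`, `y`: checked in the
112-dimensional representation.
-/
set_option autoImplicit false
set_option maxRecDepth 20000
-- one kernel check at a time: memory
set_option Elab.async false

namespace CfsgLib.J4Mult

open CfsgLib.Presented CfsgLib.J4Rep

/-- the word `w⁻¹ t w` -/
def tw (w : List ℕ) : List ℕ := winv w ++ [3] ++ w

/-- conjugation triples: conjugator, word in `x` and `y`, target -/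
def conjs : List (List ℕ × List ℕ × List ℕ) :=
  [(conjT, wG ++ wG, [3]), (conjXT, [0], [0, 3]), (conjV, [0], wG ++ [3] ++ tw wB)]

/-- the word which has to be trivial -/
def conjWord (p : List ℕ × List ℕ × List ℕ) : List ℕ :=
  p.1 ++ p.2.1 ++ winv p.1 ++ winv p.2.2

/-- a range of basis vectors fixed by one of the words -/
noncomputable def fixesRange (k lo n : ℕ) : Bool :=
  (List.range' lo n).all fun i =>
    Nat.beq (runW (conjWord (conjs.getD k ([], [], []))).reverse (2 ^ i)) (2 ^ i)

theorem fix_0_0 : fixesRange 0 0 56 = true := by decide +kernel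

theorem fix_0_56 : fixesRange 0 56 56 = true := by decide +kernel

theorem fix_1_0 : fixesRange 1 0 112 = true := by decide +kernel

theorem fix_2_0 : fixesRange 2 0 28 = true := by decide +kernel

theorem fix_2_28 : fixesRange 2 28 28 = true := by decide +kernel

theorem fix_2_56 : fixesRange 2 56 28 = true := by decide +kernel

theorem fix_2_84 : fixesRange 2 84 28 = true := by decide +kernel

theorem range_fix {k lo n : ℕ} (h : fixesRange k lo n = true) {i : ℕ} (h1 : lo ≤ i) (h2 : i < lo + n) :
    runW (conjWord (conjs.getD k ([], [], []))).reverse (2 ^ i) = 2 ^ i :=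
  Nat.eq_of_beq_eq_true (List.all_eq_true.1 h i (List.mem_range'_1.2 ⟨h1, h2⟩))

theorem conjs_fix : (conjs.all fun p => fixesBasis (conjWord p).reverse) = true := by
  refine List.all_eq_true.2 fun p hp => ?_
  obtain ⟨k, hk, rfl⟩ := List.getElem_of_mem hp
  simp only [fixesBasis, List.all_eq_true, List.mem_range]
  intro i hi
  rw [← List.getD_eq_getElem _ ([], [], []) hk]
  have hk3 : k < 3 := hk
  have e : runW (conjWord (conjs.getD k ([], [], []))).reverse (2 ^ i) = 2 ^ i := by
    obtain rfl | rfl | rfl : k = 0 ∨ k = 1 ∨ k = 2 := by omega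
    · by_cases h : i < 56
      · exact range_fix fix_0_0 (by omega) (by omega)
      · exact range_fix fix_0_56 (by omega) (by omega)
    · exact range_fix fix_1_0 (by omega) (by omega)
    · by_cases h : i < 28
      · exact range_fix fix_2_0 (by omega) (by omega)
      by_cases h' : i < 56
      · exact range_fix fix_2_28 (by omega) (by omega)
      by_cases h'' : i < 84
      · exact range_fix fix_2_56 (by omega) (by omega)
      · exact range_fix fix_2_84 (by omega) (by omega)
  rw [e]
  exact Nat.beq_refl _

theorem conjs_lt : (conjs.all fun p => (conjWord p).all fun x => Nat.blt x 4) = true := by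
  decide +kernel

open Cfsg.Spor in
/-- the values of the letters in the presented group -/
noncomputable def ev4J : ℕ → J4 :=
  ev4 (PresentedGroup.mk _ J4.x) (PresentedGroup.mk _ J4.y) (PresentedGroup.mk _ J4.t)

theorem rep_ev4J (x : ℕ) : rep (ev4J x) = ev4 permX permY permT x := by
  rcases x with _ | _ | _ | x
  · exact PresentedGroup.toGroup.of _
  · exact PresentedGroup.toGroup.of _
  · change rep (PresentedGroup.mk _ Cfsg.Spor.J4.y)⁻¹ = permY⁻¹
    rw [map_inv]
    exact congrArg _ (PresentedGroup.toGroup.of _)
  · exact PresentedGroup.toGroup.of _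

theorem rep_evW (w : List ℕ) : rep (evW ev4J w) = evW (ev4 permX permY permT) w := by
  induction w with
  | nil => exact map_one _
  | cons a w ih => rw [evW_cons, evW_cons, map_mul, ih, rep_ev4J]

theorem rep_injective (hs : IsSimpleGroup Cfsg.Spor.J4) : Function.Injective rep := by
  rw [← MonoidHom.ker_eq_bot_iff]
  refine (hs.eq_bot_or_eq_top_of_normal _ inferInstance).resolve_right fun ht => permX_ne_one ?_
  have h : rep (ev4J 0) = 1 := MonoidHom.mem_ker.1 (ht ▸ Subgroup.mem_top _)
  rwa [rep_ev4J] at h

theorem conj_trivial (hs : IsSimpleGroup Cfsg.Spor.J4) {p : List ℕ × List ℕ × List ℕ} (hp : p ∈ conjs) :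
    evW ev4J (conjWord p) = 1 := by
  refine rep_injective hs ?_
  rw [map_one, rep_evW]
  have hl := List.all_eq_true.1 (List.all_eq_true.1 conjs_lt p hp)
  simp only [Nat.blt_eq] at hl
  refine Equiv.ext fun v => Subtype.ext ?_
  rw [apply_word _ hl v]
  exact runW_fix' (List.all_eq_true.1 conjs_fix p hp) v

end CfsgLib.J4Mult
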