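import Cfsg.Agent.Lib.Presented.J4Mult.Words
import Cfsg.Agent.Lib.J4M24.Closure
import Mathlib.Algebra.Group.Commute.Basic
import Mathlib.Algebra.Group.Conj
import Mathlib.Tactic.Group

/-!
Algebra for the constants of a central extension of the presented fourth Janko group.
-/
set_option autoImplicit false

namespace CfsgLib.J4Mult

open CfsgLib.Presented CfsgLib.Presented.J4M24

variable {E : Type*} [Group E]

theorem conj_square {G j : E} (hj : j * j = 1) : G * j * G⁻¹ * (G * j * G⁻¹) = 1 := by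
  rw [show G * j * G⁻¹ * (G * j * G⁻¹) = G * (j * j) * G⁻¹ by group, hj]
  group

theorem sq_of_commute_twist {a b c : E} (hc : ∀ g, Commute c g) (ha : a * a = 1)
    (h : a * b = b * a * c) : c * c = 1 := by
  have e1 : a * (a * b) = b := by rw [← mul_assoc, ha, one_mul]
  have e2 : a * (a * b) = b * (c * c) := by
    calc a * (a * b) = a * (b * a * c) := by rw [h]
      _ = a * b * (a * c) := by simp only [mul_assoc]
      _ = b * a * c * (a * c) := by rw [h]
      _ = b * a * a * (c * c) := by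
        rw [mul_assoc (b * a) c, ← mul_assoc c a, (hc a).eq, mul_assoc a c, ← mul_assoc (b * a) a]
      _ = b * (c * c) := by rw [mul_assoc b a a, ha, mul_one]
  have := e2.symm.trans e1
  rwa [mul_eq_left] at this

theorem twist_word {X W T c : E} (hc : ∀ g, Commute c g) (hc2 : c * c = 1)
    (hX : T * X = X * T * c) (hW : T * W = W * T * c) :
    ∀ l : List ℕ, (∀ a ∈ l, a < 3) →
      T * evW (ev2 X W) l = evW (ev2 X W) l * T * c ^ l.length
  | [], _ => by simp
  | a :: l, h => by
    have ih := twist_word hc hc2 hX hW l fun b hb => h b (List.mem_cons_of_mem _ hb)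
    have hci : c⁻¹ = c := inv_eq_of_mul_eq_one_right hc2
    have hWi : T * W⁻¹ = W⁻¹ * T * c := by
      calc T * W⁻¹ = W⁻¹ * (W * T * c) * c⁻¹ * W⁻¹ := by group
        _ = W⁻¹ * (T * W) * c⁻¹ * W⁻¹ := by rw [hW]
        _ = W⁻¹ * T * (W * (c⁻¹ * W⁻¹)) := by simp only [mul_assoc]
        _ = W⁻¹ * T * c := by rw [((hc W⁻¹).inv_left).eq, hci, mul_inv_cancel_left]
    have hs : T * ev2 X W a = ev2 X W a * T * c := by
      have ha := h a List.mem_cons_self
      obtain rfl | rfl | rfl : a = 0 ∨ a = 1 ∨ a = 2 := by omega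
      · exact hX
      · exact hW
      · exact hWi
    rw [evW_cons, List.length_cons, pow_succ', ← mul_assoc, hs]
    calc ev2 X W a * T * c * evW (ev2 X W) l
        = ev2 X W a * (T * evW (ev2 X W) l) * c := by
          rw [mul_assoc (ev2 X W a * T), (hc _).eq]; simp only [mul_assoc]
      _ = ev2 X W a * evW (ev2 X W) l * T * (c * c ^ l.length) := by
          rw [ih]
          simp only [mul_assoc]
          rw [(Commute.self_pow c l.length).eq]

theorem pow_of_odd {c : E} (h : c * c = 1) : ∀ n, c ^ (2 * n + 1) = c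
  | 0 => by simp
  | n + 1 => by
    rw [show 2 * (n + 1) + 1 = (2 * n + 1) + 2 from by omega, pow_add, pow_of_odd h n, pow_two, h,
      mul_one]

theorem pow_of_even {c : E} (h : c * c = 1) (n : ℕ) : c ^ (2 * n) = 1 := by
  rw [pow_mul, pow_two, h, one_pow]

/-- The constant of the first long relator has square one. -/
theorem sq_first {Y U H d : E} (hd : ∀ g, Commute d g) (hU : U * U = 1) (hUH : U * H = H * U)
    (hH : H⁻¹ * Y * H = Y⁻¹) (h : (Y * U) ^ 3 = d) : d * d = 1 := by
  have hUi : U⁻¹ = U := inv_eq_of_mul_eq_one_right hU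
  have h1 : (Y⁻¹ * U) ^ 3 = d := by
    have e : H⁻¹ * (Y * U) * (H⁻¹)⁻¹ = Y⁻¹ * U := by
      rw [inv_inv, mul_assoc, mul_assoc, hUH, ← mul_assoc Y H U, ← mul_assoc H⁻¹, ← mul_assoc H⁻¹, hH]
    rw [← e, conj_pow, h, ← (hd H⁻¹).eq, mul_assoc, mul_inv_cancel, mul_one]
  have h2 : d⁻¹ = d := by
    calc d⁻¹ = (U * (Y⁻¹ * U) * U⁻¹) ^ 3 := by
          rw [← h, ← inv_pow, mul_inv_rev, hUi]
          simp only [mul_assoc, hU, mul_one]
      _ = d := by rw [conj_pow, h1, ← (hd U).eq, mul_assoc, mul_inv_cancel, mul_one]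
  calc d * d = d⁻¹ * d := by rw [h2]
    _ = 1 := inv_mul_cancel d

/-- The constant of the second long relator has square one. -/
theorem sq_second {g b s s' T c e : E} (he : ∀ x, Commute e x) (hc : ∀ x, Commute c x)
    (hc2 : c * c = 1) (hT : T * T = 1) (hg : T * g = g * T * c) (hs : T * s = s * T)
    (hs' : T * s' = s' * T) (hbs : b * s = s' * b) (hinv : s⁻¹ * g * s = g⁻¹)
    (h : (g * T * (b⁻¹ * T * b)) ^ 2 = e) : e * e = 1 := by
  generalize hU : b⁻¹ * T * b = U at h
  have hUs : U * s = s * U := by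
    calc U * s = b⁻¹ * T * (b * s) := by rw [← hU]; simp only [mul_assoc]
      _ = b⁻¹ * (T * s') * b := by rw [hbs]; simp only [mul_assoc]
      _ = b⁻¹ * s' * (T * b) := by rw [hs']; simp only [mul_assoc]
      _ = b⁻¹ * (s' * b) * (b⁻¹ * T * b) := by group
      _ = s * U := by rw [← hbs, hU, inv_mul_cancel_left]
  have hUU : U * U = 1 := by
    rw [← hU, show b⁻¹ * T * b * (b⁻¹ * T * b) = b⁻¹ * (T * T) * b by group, hT]
    group
  have hTi : T⁻¹ = T := inv_eq_of_mul_eq_one_right hT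
  have hUi : U⁻¹ = U := inv_eq_of_mul_eq_one_right hUU
  have h1 : (g⁻¹ * T * U) ^ 2 = e := by
    have ew : s⁻¹ * (g * T * U) * (s⁻¹)⁻¹ = g⁻¹ * T * U := by
      calc s⁻¹ * (g * T * U) * (s⁻¹)⁻¹ = s⁻¹ * g * (T * (U * s)) := by rw [inv_inv]; simp only [mul_assoc]
        _ = s⁻¹ * g * (s * (T * U)) := by rw [hUs, ← mul_assoc T, hs, mul_assoc s T U]
        _ = g⁻¹ * T * U := by rw [← mul_assoc, hinv, mul_assoc]
    rw [← ew, conj_pow, h, ← (he s⁻¹).eq, mul_assoc, mul_inv_cancel, mul_one]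
  have h2 : (g * U * T) ^ 2 = e⁻¹ := by
    calc (g * U * T) ^ 2 = (g * (g⁻¹ * T * U)⁻¹ * g⁻¹) ^ 2 := by
          rw [mul_inv_rev, mul_inv_rev, inv_inv, hTi, hUi]
          simp only [mul_assoc, mul_inv_cancel, mul_one]
      _ = g * e⁻¹ * g⁻¹ := by rw [conj_pow, inv_pow, h1]
      _ = e⁻¹ := by rw [← ((he g).inv_left).eq, mul_assoc, mul_inv_cancel, mul_one]
  have h3 : (g * U * T) ^ 2 = e := by
    have ew : T * (g * T * U) * T⁻¹ = g * U * T * c := by
      calc T * (g * T * U) * T⁻¹ = g * T * c * T * U * T := by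
            rw [hTi, ← hg]; simp only [mul_assoc]
        _ = g * (T * T) * U * T * c := by
            rw [mul_assoc (g * T) c, (hc T).eq]
            simp only [mul_assoc]
            rw [(hc U).left_comm, (hc T).eq]
        _ = g * U * T * c := by rw [hT, mul_one]
    calc (g * U * T) ^ 2 = (g * U * T * c) ^ 2 := by
          rw [((hc (g * U * T)).symm).mul_pow, pow_two c, hc2, mul_one]
      _ = T * e * T⁻¹ := by rw [← ew, conj_pow, h]
      _ = e := by rw [← (he T).eq, mul_assoc, mul_inv_cancel, mul_one]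
  calc e * e = e⁻¹ * e := by rw [← h2, h3]
    _ = 1 := inv_mul_cancel e

end CfsgLib.J4Mult
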