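import Cfsg.Agent.Lib.J4M24.Main
import Cfsg.Agent.Lib.Schur.MultiplierM24
import Cfsg.Agent.Lib.SchurCover.Perfect

/-!
Central extensions of the presented fourth Janko group: lifts of `x`, `y`, and the criterion for a
subgroup to contain the kernel.
-/
set_option autoImplicit false
set_option maxRecDepth 20000

namespace CfsgLib.J4Mult

open CfsgLib.Presented CfsgLib.Presented.J4M24 Cfsg.Spor
open scoped commutatorElement

/-- the image of `t` in the presented group -/
noncomputable def jt : J4 := PresentedGroup.mk _ J4.t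

theorem j_extra : ∀ r ∈ J4.extra, (PresentedGroup.mk _ r : J4) = 1 :=
  fun _ hr => PresentedGroup.one_of_mem (Or.inr hr)

theorem isPerfect_P7 : Group.IsPerfect P7 := by
  rw [Group.isPerfect_def, eq_top_iff, ← P7_top, wordGroup, Subgroup.closure_le]
  have hm := map_evW2 (Abelianization.of : P7 →* Abelianization P7) gx gy
  have h0 := congrArg (Abelianization.of (G := P7)) P7_rels.1
  have h1 := congrArg (Abelianization.of (G := P7)) (P7_rels.2 _ (List.getElem_mem (by decide : 0 < J4M24.relWords.length)))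
  have h2 := congrArg (Abelianization.of (G := P7)) (P7_rels.2 _ (List.getElem_mem (by decide : 1 < J4M24.relWords.length)))
  rw [hm, map_one] at h1 h2
  rw [map_mul, map_one] at h0
  generalize Abelianization.of gx = a at h0 h1 h2 hm
  generalize Abelianization.of gy = b at h1 h2 hm
  have hb : b ^ 3 = 1 := by simpa [J4M24.relWords, evW, ev2, pow_succ, mul_assoc] using h1
  have hab : (a * b) ^ 23 = 1 := by simpa [J4M24.relWords, evW, ev2, pow_succ, mul_assoc] using h2
  have ha2 : a ^ 2 = 1 := by rw [pow_two, h0]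
  rw [mul_pow] at hab
  have ha23 : a ^ 23 = a := by
    rw [show 23 = 2 * 11 + 1 from rfl, pow_succ, pow_mul, ha2, one_pow, one_mul]
  have hb23 : b ^ 23 = b ^ 2 := by
    rw [show 23 = 3 * 7 + 2 from rfl, pow_add, pow_mul, hb, one_pow, one_mul]
  rw [ha23, hb23] at hab
  have hb1 : b = 1 := by
    have h4 : (a * b ^ 2) ^ 2 = 1 := by rw [hab, one_pow]
    rw [mul_pow, ha2, one_mul, ← pow_mul, show 2 * 2 = 3 + 1 from rfl, pow_add, hb, one_mul,
      pow_one] at h4
    exact h4
  have ha1 : a = 1 := by simpa [hb1] using hab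
  rintro _ ⟨w, -, rfl⟩
  have : Abelianization.of (evW (ev2 gx gy) w) = 1 := by
    rw [hm, ha1, hb1]
    induction w with
    | nil => rfl
    | cons c w ih =>
      rw [evW_cons, ih, mul_one]
      rcases c with _ | _ | _ | c <;> simp [ev2]
  rw [← MonoidHom.mem_ker, Abelianization.ker_of] at this
  exact this

theorem commutator_J4 : IsSimpleGroup J4 → commutator J4 = ⊤ := by
  intro hs
  refine (hs.eq_bot_or_eq_top_of_normal (commutator J4) inferInstance).resolve_left fun hb => ?_
  have hcomm : jx * jy = jy * jx := by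
    have h : ⁅jx, jy⁆ ∈ commutator J4 := Subgroup.commutator_mem_commutator (Subgroup.mem_top _) (Subgroup.mem_top _)
    rw [hb, Subgroup.mem_bot] at h
    exact commutatorElement_eq_one_iff_mul_comm.1 h
  have h1 := j_rels.2 _ (List.getElem_mem (by decide : 0 < J4M24.relWords.length))
  have h2 := j_rels.2 _ (List.getElem_mem (by decide : 1 < J4M24.relWords.length))
  have hb3 : jy ^ 3 = 1 := by simpa [J4M24.relWords, evW, ev2, pow_succ, mul_assoc] using h1
  have hab : (jx * jy) ^ 23 = 1 := by simpa [J4M24.relWords, evW, ev2, pow_succ, mul_assoc] using h2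
  rw [(show Commute jx jy from hcomm).mul_pow] at hab
  have ha2 : jx ^ 2 = 1 := by rw [pow_two, j_rels.1]
  have ha23 : jx ^ 23 = jx := by
    rw [show 23 = 2 * 11 + 1 from rfl, pow_succ, pow_mul, ha2, one_pow, one_mul]
  have hb23 : jy ^ 23 = jy ^ 2 := by
    rw [show 23 = 3 * 7 + 2 from rfl, pow_add, pow_mul, hb3, one_pow, one_mul]
  rw [ha23, hb23] at hab
  refine jx_ne_one ?_
  have h6 : jx ^ 3 = 1 := by
    rw [eq_inv_of_mul_eq_one_left hab, inv_pow, ← pow_mul, show 2 * 3 = 3 * 2 from rfl, pow_mul, hb3,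
      one_pow, inv_one]
  rwa [pow_succ, ha2, one_mul] at h6

variable {Γ : Type*} [Group Γ] {σ : Γ →* J4}

theorem exists_lifts (hσ : Function.Surjective σ) (hc : σ.ker ≤ Subgroup.center Γ) :
    ∃ X Y : Γ, σ X = jx ∧ σ Y = jy ∧ M24Rels X Y := by
  obtain ⟨φ, hx, hy⟩ := exists_hom j_rels
  obtain ⟨e⟩ := nonempty_P7_equiv
  have hf := CfsgLib.SchurCover.fibreFst_surjective φ hσ
  have hk := CfsgLib.SchurCover.ker_fibreFst_le_center φ hc
  have hb : (CfsgLib.SchurCover.fibreFst φ σ).ker ⊓ commutator _ = ⊥ := by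
    rw [← MonoidHom.ker_mulEquiv_comp (CfsgLib.SchurCover.fibreFst φ σ) e]
    exact CfsgLib.SchurCover.ker_inf_commutator_eq_bot CfsgLib.Schur.MultiplierM24.multiplier _
      (e.surjective.comp hf) (by rwa [MonoidHom.ker_mulEquiv_comp])
  obtain ⟨s, hs⟩ := CfsgLib.SchurCover.exists_section_of_perfect isPerfect_P7 _ hf hb
  let η := (CfsgLib.SchurCover.fibreSnd φ σ).comp s
  have hη : ∀ g, σ (η g) = φ g := fun g => by
    have h1 := CfsgLib.SchurCover.fibre_rel φ σ (s g)
    have h2 : CfsgLib.SchurCover.fibreFst φ σ (s g) = g := DFunLike.congr_fun hs g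
    rw [h2] at h1
    exact h1.symm
  refine ⟨η gx, η gy, (hη gx).trans hx, (hη gy).trans hy, ?_, fun w hw => ?_⟩
  · rw [← map_mul, P7_rels.1, map_one]
  · rw [← map_evW2, P7_rels.2 w hw, map_one]

/-- a lift of the generators -/
noncomputable def gens (X Y T : Γ) : J4.Gen → Γ
  | .x => X
  | .y => Y
  | .t => T

theorem ker_le_of_rels (hp : commutator Γ = ⊤) (hc : σ.ker ≤ Subgroup.center Γ)
    {X Y T : Γ} (hX : σ X = jx) (hY : σ Y = jy) (hT : σ T = jt)
    {C : Subgroup Γ} [C.Normal] (hC : C ≤ σ.ker)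
    (hr : ∀ r ∈ J4.extra, FreeGroup.lift (gens X Y T) r ∈ C) : σ.ker ≤ C := by
  let q := QuotientGroup.mk' C
  let π : Γ ⧸ C →* J4 := QuotientGroup.lift C σ hC
  have hl : ∀ r ∈ coxRelators J4.edges ∪ {r | r ∈ J4.extra},
      FreeGroup.lift (q ∘ gens X Y T) r = 1 := by
    rintro r (hr' | hr')
    · obtain ⟨a, ha, -⟩ := hr'
      simp [coxNodes, J4.edges] at ha
    · have e : FreeGroup.lift (q ∘ gens X Y T) = q.comp (FreeGroup.lift (gens X Y T)) :=
        FreeGroup.ext_hom _ _ (fun a => by simp)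
      rw [e, MonoidHom.comp_apply, QuotientGroup.mk'_apply, QuotientGroup.eq_one_iff]
      exact hr r hr'
  let ψ : J4 →* Γ ⧸ C := PresentedGroup.toGroup hl
  have hπψ : π.comp ψ = MonoidHom.id J4 := by
    refine PresentedGroup.ext fun a => ?_
    rw [MonoidHom.comp_apply, MonoidHom.id_apply, PresentedGroup.toGroup.of]
    cases a
    · exact hX
    · exact hY
    · exact hT
  have hcen : ∀ k : Γ ⧸ C, π k = 1 → k ∈ Subgroup.center (Γ ⧸ C) := by
    intro k hk
    obtain ⟨g, rfl⟩ := QuotientGroup.mk'_surjective C k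
    have hg : g ∈ σ.ker := hk
    rw [Subgroup.mem_center_iff]
    intro h
    obtain ⟨h, rfl⟩ := QuotientGroup.mk'_surjective C h
    rw [← map_mul, ← map_mul, Subgroup.mem_center_iff.1 (hc hg) h]
  have hd : ∀ u : Γ ⧸ C, (ψ (π u))⁻¹ * u ∈ Subgroup.center (Γ ⧸ C) := fun u => hcen _ (by
    rw [map_mul, map_inv, ← MonoidHom.comp_apply π ψ, hπψ, MonoidHom.id_apply, inv_mul_cancel])
  have htop : commutator (Γ ⧸ C) = ⊤ := by
    rw [← CfsgLib.SchurCover.map_commutator_eq q (QuotientGroup.mk'_surjective C), hp,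
      Subgroup.map_top_of_surjective _ (QuotientGroup.mk'_surjective C)]
  have hsur : ψ.range = ⊤ := by
    rw [eq_top_iff, ← htop, commutator_def, Subgroup.commutator_le]
    intro u _ v _
    rw [CfsgLib.SchurCover.commutator_congr_central (hd u) (hd v), ← map_commutatorElement]
    exact ⟨_, rfl⟩
  intro z hz
  obtain ⟨j, hj⟩ := (hsur ▸ Subgroup.mem_top (q z) : q z ∈ ψ.range)
  have h1 : j = 1 := by
    rw [← MonoidHom.id_apply J4 j, ← hπψ, MonoidHom.comp_apply, hj]
    exact hz
  rw [h1, map_one] at hj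
  exact (QuotientGroup.eq_one_iff z).1 hj.symm

end CfsgLib.J4Mult
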