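import Cfsg.Agent.Lib.Presented.J4Mult.Words
import Cfsg.Agent.Lib.J4M24.Closure
import Cfsg.Prelude.Def_Spor_J4
import Mathlib.GroupTheory.PresentedGroup

/-!
The relators of the presented fourth Janko group in terms of the generated words.
-/
set_option autoImplicit false
set_option maxRecDepth 20000

namespace CfsgLib.J4Mult

open CfsgLib.Presented CfsgLib.Presented.J4M24 Cfsg.Spor

variable {K : Type*} [Group K]

/-- the commutator of `t` and `x` as printed -/
def cX (X T : K) : K := T⁻¹ * X⁻¹ * T * X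
/-- the commutator of `t` and `W` as printed -/
def cW (X Y T : K) : K := T⁻¹ * (evW (ev2 X Y) wW)⁻¹ * T * evW (ev2 X Y) wW
/-- the first long relator -/
def rA (X Y T : K) : K := (Y * ((evW (ev2 X Y) wA)⁻¹ * T * evW (ev2 X Y) wA)) ^ 3
/-- the second long relator -/
def rB (X Y T : K) : K :=
  (evW (ev2 X Y) wG * T * ((evW (ev2 X Y) wB)⁻¹ * T * evW (ev2 X Y) wB)) ^ 2

theorem map_cX {L : Type*} [Group L] (f : K →* L) (X T : K) : f (cX X T) = cX (f X) (f T) := by
  simp [cX]

theorem map_cW {L : Type*} [Group L] (f : K →* L) (X Y T : K) :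
    f (cW X Y T) = cW (f X) (f Y) (f T) := by
  have h : ∀ w, f (evW (ev2 X Y) w) = evW (ev2 (f X) (f Y)) w := by
    intro w
    induction w with
    | nil => exact map_one f
    | cons a w ih =>
      rw [evW_cons, evW_cons, map_mul, ih]
      rcases a with _ | _ | _ | a <;> simp [ev2]
  simp [cW, h]

theorem map_rA {L : Type*} [Group L] (f : K →* L) (X Y T : K) :
    f (rA X Y T) = rA (f X) (f Y) (f T) := by
  have h : ∀ w, f (evW (ev2 X Y) w) = evW (ev2 (f X) (f Y)) w := by
    intro w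
    induction w with
    | nil => exact map_one f
    | cons a w ih =>
      rw [evW_cons, evW_cons, map_mul, ih]
      rcases a with _ | _ | _ | a <;> simp [ev2]
  simp [rA, h]

theorem map_rB {L : Type*} [Group L] (f : K →* L) (X Y T : K) :
    f (rB X Y T) = rB (f X) (f Y) (f T) := by
  have h : ∀ w, f (evW (ev2 X Y) w) = evW (ev2 (f X) (f Y)) w := by
    intro w
    induction w with
    | nil => exact map_one f
    | cons a w ih =>
      rw [evW_cons, evW_cons, map_mul, ih]
      rcases a with _ | _ | _ | a <;> simp [ev2]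
  simp [rB, h]

variable (φ : FreeGroup J4.Gen →* K)

/-- All printed relators lie in a subgroup as soon as the last five do. -/
theorem extra_mem (C : Subgroup K) (hXY : M24Rels (φ J4.x) (φ J4.y)) (ht : φ J4.t * φ J4.t ∈ C)
    (hw : cW (φ J4.x) (φ J4.y) (φ J4.t) ∈ C) (hx : cX (φ J4.x) (φ J4.t) ∈ C)
    (ha : rA (φ J4.x) (φ J4.y) (φ J4.t) ∈ C) (hb : rB (φ J4.x) (φ J4.y) (φ J4.t) ∈ C) :
    ∀ r ∈ J4.extra, φ r ∈ C := by
  obtain ⟨hxx, hm⟩ := hXY
  have hxi : (φ J4.x)⁻¹ = φ J4.x := inv_eq_of_mul_eq_one_right hxx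
  have h := fun i (hi : i < J4M24.relWords.length) => hm _ (List.getElem_mem hi)
  generalize hA : J4.x = A at *
  generalize hB : J4.y = B at *
  generalize hT : J4.t = T at *
  intro r hr
  simp only [J4.extra, hA, hB, hT, List.mem_cons, List.not_mem_nil, or_false] at hr
  rcases hr with rfl | rfl | rfl | rfl | rfl | rfl | rfl | rfl | rfl | rfl | rfl | rfl
  · simpa [pow_two, hxx] using C.one_mem
  · have h0 := h 0 (by decide)
    have e : φ (B ^ 3) = 1 := by simpa [J4M24.relWords, evW, ev2, pow_succ, mul_assoc] using h0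
    exact e ▸ C.one_mem
  · have h0 := h 1 (by decide)
    have e : φ ((A * B) ^ 23) = 1 := by
      simpa [J4M24.relWords, evW, ev2, pow_succ, mul_assoc] using h0
    exact e ▸ C.one_mem
  · have h0 := h 2 (by decide)
    have e : φ ((A⁻¹ * B⁻¹ * A * B) ^ 12) = 1 := by
      simpa [J4M24.relWords, evW, ev2, hxi, pow_succ, mul_assoc] using h0
    exact e ▸ C.one_mem
  · have h0 := h 3 (by decide)
    have e : φ ((A⁻¹ * (B * A * B)⁻¹ * A * (B * A * B)) ^ 5) = 1 := by
      simpa [J4M24.relWords, evW, ev2, hxi, pow_succ, mul_assoc, mul_inv_rev] using h0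
    exact e ▸ C.one_mem
  · have h0 := h 4 (by decide)
    have e : φ ((A * B * ((A * B * A * (B⁻¹)) ^ 3)) ^ 4) = 1 := by
      simpa [J4M24.relWords, evW, ev2, hxi, pow_succ, mul_assoc] using h0
    exact e ▸ C.one_mem
  · have h0 := h 5 (by decide)
    have e : φ (((A * B * A * B * A * (B⁻¹)) ^ 3) * ((A * B * A * (B⁻¹) * A * (B⁻¹)) ^ 3)) = 1 := by
      simpa [J4M24.relWords, evW, ev2, hxi, pow_succ, mul_assoc] using h0
    exact e ▸ C.one_mem
  · simpa [pow_two] using ht
  · simpa [cW, wW, evW, ev2, hxi, pow_succ, mul_assoc, mul_inv_rev] using hw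
  · simpa [cX, hxi, mul_assoc] using hx
  · simpa [rA, wA, evW, ev2, hxi, pow_succ, mul_assoc, mul_inv_rev] using ha
  · simpa [rB, wG, wB, evW, ev2, hxi, pow_succ, mul_assoc, mul_inv_rev] using hb

/-- The last five printed relators. -/
theorem extra_tail (hxx : φ J4.x * φ J4.x = 1) (hm : ∀ r ∈ J4.extra, φ r = 1) :
    φ J4.t * φ J4.t = 1 ∧ cW (φ J4.x) (φ J4.y) (φ J4.t) = 1 ∧ cX (φ J4.x) (φ J4.t) = 1 ∧
      rA (φ J4.x) (φ J4.y) (φ J4.t) = 1 ∧ rB (φ J4.x) (φ J4.y) (φ J4.t) = 1 := by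
  simp only [J4.extra, List.forall_mem_cons] at hm
  obtain ⟨-, -, -, -, -, -, -, h7, h8, h9, h10, h11, -⟩ := hm
  have hxi : (φ J4.x)⁻¹ = φ J4.x := inv_eq_of_mul_eq_one_right hxx
  generalize hA : J4.x = A at *
  generalize hB : J4.y = B at *
  generalize hT : J4.t = T at *
  refine ⟨?_, ?_, ?_, ?_, ?_⟩
  · simpa [pow_two] using h7
  · simpa [cW, wW, evW, ev2, hxi, pow_succ, mul_assoc, mul_inv_rev] using h8
  · simpa [cX, hxi, mul_assoc] using h9
  · simpa [rA, wA, evW, ev2, hxi, pow_succ, mul_assoc, mul_inv_rev] using h10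
  · simpa [rB, wG, wB, evW, ev2, hxi, pow_succ, mul_assoc, mul_inv_rev] using h11

end CfsgLib.J4Mult
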