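import Cfsg.Agent.Lib.Presented.J4Mult.RepCheck
import Cfsg.Agent.Lib.Presented.J4Mult.Algebra
import Cfsg.Agent.Lib.Presented.J4Mult.Relators
import Cfsg.Agent.Lib.Presented.J4Mult.Lift

/-!
Evaluation of the generated words in a group with elements `X`, `Y`, `T`.
-/
set_option autoImplicit false
set_option maxRecDepth 20000

namespace CfsgLib.J4Mult

open CfsgLib.Presented CfsgLib.Presented.J4M24 CfsgLib.J4Rep Cfsg.Spor

variable {K : Type*} [Group K]

theorem evW_winv {X Y : K} (hX : X * X = 1) :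
    ∀ w : List ℕ, evW (ev2 X Y) (winv w) = (evW (ev2 X Y) w)⁻¹
  | [] => by simp [winv]
  | a :: w => by
    have ih := evW_winv (Y := Y) hX w
    have e : winv (a :: w) = winv w ++ winv [a] := by simp [winv]
    rw [e, evW_append, ih, evW_cons, mul_inv_rev]
    have hXi : X⁻¹ = X := inv_eq_of_mul_eq_one_right hX
    congr 1
    rcases a with _ | _ | _ | a <;> simp [winv, ev2, hXi]

theorem evW_expand {X Y : K} (hX : X * X = 1) :
    ∀ l : List ℕ, evW (ev2 X Y) (expand l) = evW (ev2 X (evW (ev2 X Y) wW)) l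
  | [] => by simp [expand]
  | a :: l => by
    have ih := evW_expand (Y := Y) hX l
    rcases a with _ | _ | _ | a
    · show evW (ev2 X Y) ([0] ++ expand l) = _
      rw [evW_append, ih]; simp [ev2]
    · show evW (ev2 X Y) (wW ++ expand l) = _
      rw [evW_append, ih]; simp [ev2]
    · show evW (ev2 X Y) (winv wW ++ expand l) = _
      rw [evW_append, ih, evW_winv hX]; simp [ev2]
    · show evW (ev2 X Y) ([] ++ expand l) = _
      rw [evW_append, ih]; simp [ev2]

theorem evW_wpow (ev : ℕ → K) (w : List ℕ) : ∀ n, evW ev (wpow w n) = evW ev w ^ n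
  | 0 => by simp [wpow]
  | n + 1 => by rw [wpow, evW_append, evW_wpow ev w n, pow_succ']

theorem ev4_eq_ev2 (X Y T : K) : ∀ w : List ℕ, (∀ a ∈ w, a < 3) →
    evW (ev4 X Y T) w = evW (ev2 X Y) w
  | [], _ => rfl
  | a :: w, h => by
    rw [evW_cons, evW_cons, ev4_eq_ev2 X Y T w fun b hb => h b (List.mem_cons_of_mem _ hb)]
    congr 1
    have := h a List.mem_cons_self
    obtain rfl | rfl | rfl : a = 0 ∨ a = 1 ∨ a = 2 := by omega
    all_goals rfl

theorem map_ev4 {L : Type*} [Group L] (f : K →* L) (X Y T : K) :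
    ∀ w, f (evW (ev4 X Y T) w) = evW (ev4 (f X) (f Y) (f T)) w
  | [] => map_one f
  | a :: w => by
    rw [evW_cons, evW_cons, map_mul, map_ev4 f X Y T w]
    rcases a with _ | _ | _ | a <;> simp [ev4]

theorem ev4J_winv (h : jt * jt = 1) : ∀ w : List ℕ, evW ev4J (winv w) = (evW ev4J w)⁻¹
  | [] => by simp [winv]
  | a :: w => by
    have ih := ev4J_winv h w
    have e : winv (a :: w) = winv w ++ winv [a] := by simp [winv]
    rw [e, evW_append, ih, evW_cons, mul_inv_rev]
    congr 1
    have hxi : jx⁻¹ = jx := inv_eq_of_mul_eq_one_right j_rels.1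
    have hti : jt⁻¹ = jt := inv_eq_of_mul_eq_one_right h
    rcases a with _ | _ | _ | a
    · simp [winv]; exact hxi.symm
    · simp [winv, ev4J, ev4]
    · simp [winv, ev4J, ev4]
    · simp [winv]; exact hti.symm

theorem conj_eq (hs : IsSimpleGroup J4) (h : jt * jt = 1) {p : List ℕ × List ℕ × List ℕ}
    (hp : p ∈ conjs) :
    evW ev4J p.1 * evW ev4J p.2.1 * (evW ev4J p.1)⁻¹ = evW ev4J p.2.2 := by
  have := conj_trivial hs hp
  rw [conjWord, evW_append, evW_append, evW_append, ev4J_winv h, ev4J_winv h] at this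
  exact eq_of_mul_inv_eq_one this

end CfsgLib.J4Mult
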