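import Cfsg.Agent.Lib.Presented.J4Mult.Words
import Cfsg.Agent.Lib.J4M24.Main

/-!
Identities between words in `x`, `y` in the two-generator presented Mathieu group, checked on 24 points.
-/
set_option autoImplicit false
set_option maxRecDepth 20000

namespace CfsgLib.J4Mult

open CfsgLib.Presented CfsgLib.Presented.J4M24

/-- the stabiliser letters written in `x` and `y` -/
def expand (w : List ℕ) : List ℕ :=
  w.flatMap fun a => match a with | 0 => [0] | 1 => wW | 2 => winv wW | _ => []

/-- `W W` seen from the conjugated `t` -/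
def wH : List ℕ := winv wA ++ (wW ++ wW) ++ wA

/-- a power of a word -/
def wpow (w : List ℕ) : ℕ → List ℕ
  | 0 => []
  | n + 1 => w ++ wpow w n

/-- the identities, as pairs of words -/
def idents : List (List ℕ × List ℕ) :=
  [(wpow ([0] ++ wW) 21, []),
   (winv wH ++ [1] ++ wH, [2]),
   (wG, expand sG),
   (winv (expand sE) ++ wG ++ expand sE, winv wG),
   (wB ++ expand sE, expand sE' ++ wB),
   (wpow wG 4, [])]

theorem idents_pt : ∀ p ∈ idents, evW (ev2 ptX ptY) p.1 = evW (ev2 ptX ptY) p.2 := by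
  intro p hp
  refine CfsgLib.Golay.toList_injective ?_
  revert p
  decide +kernel

/-- An identity holding in the Mathieu group on 24 points holds for any pair satisfying the relations. -/
theorem evW_eq {K : Type*} [Group K] {a b : K} (h : M24Rels a b) {u v : List ℕ}
    (huv : evW (ev2 ptX ptY) u = evW (ev2 ptX ptY) v) : evW (ev2 a b) u = evW (ev2 a b) v := by
  obtain ⟨φ, hx, hy⟩ := exists_hom h
  obtain ⟨φ0, hx0, hy0⟩ := exists_hom M24_rels
  have : Finite P7 := Nat.finite_of_card_ne_zero card_P7_le.1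
  have hsur : Function.Surjective φ0 := by
    rw [← MonoidHom.range_eq_top, eq_top_iff]
    have hle : Cfsg.M24 ≤ φ0.range.map (Subgroup.subtype Cfsg.M24) :=
      M24_le ⟨_, ⟨gx, rfl⟩, by rw [hx0]; rfl⟩ ⟨_, ⟨gy, rfl⟩, by rw [hy0]; rfl⟩
    intro g _
    obtain ⟨g', hg', he⟩ := hle g.2
    rwa [← Subtype.ext he]
  have hcard : Nat.card P7 ≤ Nat.card Cfsg.M24 :=
    CfsgLib.Golay.natCard_M24.symm ▸ card_P7_le.2
  have hinj := (hsur.bijective_of_nat_card_le hcard).1
  have h0 : evW (ev2 gx gy) u = evW (ev2 gx gy) v := by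
    refine hinj (Subtype.ext ?_)
    have e1 := fun w => map_evW2 ((Subgroup.subtype Cfsg.M24).comp φ0) gx gy w
    have e2 : ((Subgroup.subtype Cfsg.M24).comp φ0) gx = ptX := by simp [hx0]
    have e3 : ((Subgroup.subtype Cfsg.M24).comp φ0) gy = ptY := by simp [hy0]
    have h1 := e1 u
    have h2 := e1 v
    rw [e2, e3] at h1 h2
    simp only [MonoidHom.comp_apply, Subgroup.coe_subtype] at h1 h2
    rw [h1, h2, huv]
  have := congrArg φ h0
  rwa [map_evW2, map_evW2, hx, hy] at this

theorem ident {K : Type*} [Group K] {a b : K} (h : M24Rels a b) {p : List ℕ × List ℕ}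
    (hp : p ∈ idents) : evW (ev2 a b) p.1 = evW (ev2 a b) p.2 :=
  evW_eq h (idents_pt p hp)

end CfsgLib.J4Mult
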