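import Cfsg.Agent.Lib.Presented.J4Mult.Eval

/-!
Every central extension with kernel in the derived subgroup of the presented fourth Janko group is
trivial, given that this group is simple.
-/
set_option autoImplicit false
set_option maxRecDepth 20000

namespace CfsgLib.J4Mult

open CfsgLib.Presented CfsgLib.Presented.J4M24 CfsgLib.J4Rep Cfsg.Spor

theorem j_tail : jt * jt = 1 ∧ cW jx jy jt = 1 ∧ cX jx jt = 1 ∧ rA jx jy jt = 1 ∧ rB jx jy jt = 1 :=
  extra_tail (PresentedGroup.mk _) j_rels.1 j_extra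

variable {Γ : Type*} [Group Γ] {σ : Γ →* J4}

/-- the kernel elements of order at most two -/
def kerTwo (hc : σ.ker ≤ Subgroup.center Γ) : Subgroup Γ where
  carrier := {z | z ∈ σ.ker ∧ z * z = 1}
  one_mem' := ⟨σ.ker.one_mem, mul_one 1⟩
  mul_mem' := fun {a b} ha hb => ⟨σ.ker.mul_mem ha.1 hb.1, by
    have h := Subgroup.mem_center_iff.1 (hc hb.1) a
    rw [mul_assoc, ← mul_assoc b a b, ← h, mul_assoc a b b, hb.2, mul_one, ha.2]⟩
  inv_mem' := fun {a} ha => ⟨σ.ker.inv_mem ha.1, by rw [← mul_inv_rev, ha.2, inv_one]⟩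

instance kerTwo_normal (hc : σ.ker ≤ Subgroup.center Γ) : (kerTwo hc).Normal where
  conj_mem := fun z hz g => by
    rwa [Subgroup.mem_center_iff.1 (hc hz.1) g, mul_inv_cancel_right]

theorem cX_spec (X T : Γ) : T * X = X * T * cX X T := by
  simp only [cX]; group

theorem cW_spec (X Y T : Γ) :
    T * evW (ev2 X Y) wW = evW (ev2 X Y) wW * T * cW X Y T := by
  simp only [cW]; group

theorem ker_eq_bot (hs : IsSimpleGroup J4) (hσ : Function.Surjective σ)
    (hc : σ.ker ≤ Subgroup.center Γ) (hd : σ.ker ≤ commutator Γ) : σ.ker = ⊥ := by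
  have hperf : commutator Γ = ⊤ := by
    rw [eq_top_iff]
    intro g _
    have hg : σ g ∈ (commutator Γ).map σ := by
      rw [CfsgLib.SchurCover.map_commutator_eq σ hσ, commutator_J4 hs]
      exact Subgroup.mem_top _
    obtain ⟨k, hk, hkg⟩ := hg
    have : k⁻¹ * g ∈ σ.ker := by rw [MonoidHom.mem_ker, map_mul, map_inv, hkg, inv_mul_cancel]
    simpa using (commutator Γ).mul_mem hk (hd this)
  have hcomm : ∀ z ∈ σ.ker, ∀ g, Commute z g := fun z hz g =>
    (Subgroup.mem_center_iff.1 (hc hz) g).symm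
  obtain ⟨X, Y, hX, hY, hXY⟩ := exists_lifts hσ hc
  obtain ⟨T0, hT0⟩ := hσ jt
  have hev : ∀ w, σ (evW (ev4 X Y T0) w) = evW ev4J w := fun w => by
    rw [map_ev4, hX, hY, hT0]; rfl
  have hev2 : ∀ w, σ (evW (ev2 X Y) w) = evW (ev2 jx jy) w := fun w => by
    rw [map_evW2, hX, hY]
  have hG4 : evW (ev2 X Y) (wG ++ wG) * evW (ev2 X Y) (wG ++ wG) = 1 := by
    have h := ident hXY (p := (wpow wG 4, [])) (by simp [idents])
    rw [evW_wpow, evW_nil] at h
    rw [evW_append, ← h, show (4 : ℕ) = 2 + 2 from rfl, pow_add, pow_two]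
  -- an involution above `t`
  obtain ⟨T, hT, hTT⟩ : ∃ T, σ T = jt ∧ T * T = 1 := by
    refine ⟨evW (ev4 X Y T0) conjT * evW (ev2 X Y) (wG ++ wG) * (evW (ev4 X Y T0) conjT)⁻¹, ?_,
      conj_square hG4⟩
    have h := conj_eq hs j_tail.1 (p := (conjT, wG ++ wG, [3])) (by simp [conjs])
    rw [← ev4_eq_ev2 X Y T0 _ (by decide), map_mul, map_mul, map_inv, hev, hev]
    refine h.trans ?_
    simp [ev4J, ev4, jt]
  have hker : ∀ {k : Γ}, σ k = 1 → k ∈ σ.ker := fun h => MonoidHom.mem_ker.2 h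
  have hcXm : cX X T ∈ σ.ker := hker (by rw [map_cX, hX, hT]; exact j_tail.2.2.1)
  have hcWm : cW X Y T ∈ σ.ker := hker (by rw [map_cW, hX, hY, hT]; exact j_tail.2.1)
  have hdm : rA X Y T ∈ σ.ker := hker (by rw [map_rA, hX, hY, hT]; exact j_tail.2.2.2.1)
  have hem : rB X Y T ∈ σ.ker := hker (by rw [map_rB, hX, hY, hT]; exact j_tail.2.2.2.2)
  have hc1 : cX X T * cX X T = 1 :=
    sq_of_commute_twist (hcomm _ hcXm) hTT (cX_spec X T)
  have hc2 : cW X Y T * cW X Y T = 1 :=
    sq_of_commute_twist (hcomm _ hcWm) hTT (cW_spec X Y T)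
  have hWX : cW X Y T = cX X T := by
    have hcc : ∀ g, Commute (cX X T * cW X Y T) g := fun g =>
      (hcomm _ hcXm g).mul_left (hcomm _ hcWm g)
    have hcc2 : cX X T * cW X Y T * (cX X T * cW X Y T) = 1 := by
      rw [mul_assoc, ← mul_assoc (cW X Y T), (hcomm _ hcWm (cX X T)).eq,
        mul_assoc (cX X T) (cW X Y T), hc2, mul_one, hc1]
    have hXW : T * (X * evW (ev2 X Y) wW) =
        X * evW (ev2 X Y) wW * T * (cX X T * cW X Y T) := by
      calc T * (X * evW (ev2 X Y) wW) = X * T * cX X T * evW (ev2 X Y) wW := by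
            rw [← mul_assoc, ← cX_spec]
        _ = X * (T * evW (ev2 X Y) wW) * cX X T := by
            rw [mul_assoc (X * T), (hcomm _ hcXm _).eq]; simp only [mul_assoc]
        _ = _ := by
            rw [cW_spec]; simp only [mul_assoc]
            rw [(hcomm _ hcWm (cX X T)).eq]
    have h21 := twist_word hcc hcc2 hXW hXW (List.replicate 21 0) (by simp)
    have hpw : evW (ev2 (X * evW (ev2 X Y) wW) (X * evW (ev2 X Y) wW)) (List.replicate 21 0) = 1 := by
      have h := ident hXY (p := (wpow ([0] ++ wW) 21, [])) (by simp [idents])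
      rw [evW_wpow, evW_append, evW_nil] at h
      rw [show List.replicate 21 0 = wpow [0] 21 from rfl, evW_wpow]
      simpa [ev2] using h
    rw [hpw, mul_one, one_mul, List.length_replicate, show 21 = 2 * 10 + 1 from rfl,
      pow_of_odd hcc2, eq_comm, mul_eq_left] at h21
    exact (eq_inv_of_mul_eq_one_right h21).trans (inv_eq_of_mul_eq_one_right hc1)
  have hWspec := cW_spec X Y T
  rw [hWX] at hWspec
  have hchi : ∀ l : List ℕ, (∀ a ∈ l, a < 3) → T * evW (ev2 X Y) (expand l) =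
      evW (ev2 X Y) (expand l) * T * cX X T ^ l.length := fun l hl => by
    rw [evW_expand hXY.1]
    exact twist_word (hcomm _ hcXm) hc1 (cX_spec X T) hWspec l hl
  have hd2 : rA X Y T * rA X Y T = 1 := by
    refine sq_first (H := evW (ev2 X Y) wH) (hcomm _ hdm) ?_ ?_ ?_
      (show (Y * ((evW (ev2 X Y) wA)⁻¹ * T * evW (ev2 X Y) wA)) ^ 3 = _ from rfl)
    · rw [show (evW (ev2 X Y) wA)⁻¹ * T * evW (ev2 X Y) wA *
          ((evW (ev2 X Y) wA)⁻¹ * T * evW (ev2 X Y) wA) =
          (evW (ev2 X Y) wA)⁻¹ * (T * T) * evW (ev2 X Y) wA by group, hTT]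
      group
    · have h := hchi [1, 1] (by decide)
      rw [show ([1, 1] : List ℕ).length = 2 * 1 from rfl, pow_of_even hc1, mul_one,
        show expand [1, 1] = wW ++ wW by simp [expand]] at h
      rw [show wH = winv wA ++ (wW ++ wW) ++ wA from rfl, evW_append, evW_append (u := winv wA),
        evW_winv hXY.1]
      generalize evW (ev2 X Y) wA = a
      generalize evW (ev2 X Y) (wW ++ wW) = m at h
      calc a⁻¹ * T * a * (a⁻¹ * m * a) = a⁻¹ * (T * m) * a := by group
        _ = a⁻¹ * (m * T) * a := by rw [h]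
        _ = a⁻¹ * m * a * (a⁻¹ * T * a) := by group
    · have h := ident hXY (p := (winv wH ++ [1] ++ wH, [2])) (by simp [idents])
      rw [evW_append, evW_append, evW_winv hXY.1] at h
      simpa [evW, ev2] using h
  have hG : evW (ev2 X Y) wG = evW (ev2 X Y) (expand sG) :=
    ident hXY (p := (wG, expand sG)) (by simp [idents])
  have hgT : T * evW (ev2 X Y) wG = evW (ev2 X Y) wG * T * cX X T := by
    rw [hG, hchi sG (by decide), show sG.length = 2 * 11 + 1 from rfl, pow_of_odd hc1]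
  have he2 : rB X Y T * rB X Y T = 1 := by
    refine sq_second (b := evW (ev2 X Y) wB) (s := evW (ev2 X Y) (expand sE))
      (s' := evW (ev2 X Y) (expand sE')) (hcomm _ hem) (hcomm _ hcXm) hc1 hTT hgT ?_ ?_ ?_ ?_
      (show (evW (ev2 X Y) wG * T *
        ((evW (ev2 X Y) wB)⁻¹ * T * evW (ev2 X Y) wB)) ^ 2 = _ from rfl)
    · rw [hchi sE (by decide), show sE.length = 2 * 6 from rfl, pow_of_even hc1, mul_one]
    · rw [hchi sE' (by decide), show sE'.length = 2 * 8 from rfl, pow_of_even hc1, mul_one]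
    · have h := ident hXY (p := (wB ++ expand sE, expand sE' ++ wB)) (by simp [idents])
      rwa [evW_append, evW_append] at h
    · have h := ident hXY (p := (winv (expand sE) ++ wG ++ expand sE, winv wG)) (by simp [idents])
      rwa [evW_append, evW_append, evW_winv hXY.1, evW_winv hXY.1] at h
  -- the kernel has exponent two
  have hsq : ∀ z ∈ σ.ker, z * z = 1 := fun z hz => by
    refine (ker_le_of_rels hperf hc hX hY hT (C := kerTwo hc) (fun k hk => hk.1) ?_ hz).2
    refine extra_mem (FreeGroup.lift (gens X Y T)) _ ?_ ?_ ?_ ?_ ?_ ?_ <;>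
      simp only [FreeGroup.lift_apply_of]
    · exact hXY
    · show T * T ∈ kerTwo hc
      rw [hTT]; exact one_mem _
    · show cW X Y T ∈ kerTwo hc
      exact ⟨hcWm, hc2⟩
    · show cX X T ∈ kerTwo hc
      exact ⟨hcXm, hc1⟩
    · show rA X Y T ∈ kerTwo hc
      exact ⟨hdm, hd2⟩
    · show rB X Y T ∈ kerTwo hc
      exact ⟨hem, he2⟩
  have hinv : ∀ {u : Γ} (G j : Γ), j * j = 1 → σ u = σ (G * j * G⁻¹) → u * u = 1 := by
    intro u G j hj hu
    have hk : u⁻¹ * (G * j * G⁻¹) ∈ σ.ker := hker (by rw [map_mul, map_inv, hu, inv_mul_cancel])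
    have h := conj_square (G := G) hj
    rw [show G * j * G⁻¹ = u * (u⁻¹ * (G * j * G⁻¹)) by group] at h
    generalize u⁻¹ * (G * j * G⁻¹) = z at hk h
    rwa [mul_assoc, ← mul_assoc z u z, (hcomm z hk u).eq, mul_assoc u z z, hsq z hk, mul_one] at h
  have hXX := hXY.1
  have hXi : X⁻¹ = X := inv_eq_of_mul_eq_one_right hXX
  have hcX1 : cX X T = 1 := by
    have h := hinv (u := X * T) (evW (ev4 X Y T0) conjXT) X hXX ?_
    · calc cX X T = T⁻¹ * X⁻¹ * T * X := rfl
        _ = X * (X * T * (X * T)) * X := by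
          rw [hXi, inv_eq_of_mul_eq_one_right hTT]
          simp only [← mul_assoc, hXX, one_mul]
        _ = 1 := by rw [h, mul_one, hXX]
    · have e := conj_eq hs j_tail.1 (p := (conjXT, [0], [0, 3])) (by simp [conjs])
      rw [map_mul, map_mul, map_mul, map_inv, hev, hX, hT]
      have e0 : evW ev4J [0] = jx := by simp [ev4J, ev4, jx]
      have e3 : evW ev4J [0, 3] = jx * jt := by simp [ev4J, ev4, jx, jt]
      simp only [e0, e3] at e
      exact e.symm
  -- adjust the involution above `t`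
  have hT' : σ (T * rA X Y T) = jt := by rw [map_mul, MonoidHom.mem_ker.1 hdm, mul_one, hT]
  have hTT' : T * rA X Y T * (T * rA X Y T) = 1 := by
    rw [mul_assoc, ← mul_assoc (rA X Y T) T, (hcomm _ hdm T).eq, mul_assoc T (rA X Y T), hd2,
      mul_one, hTT]
  have hcX' : cX X (T * rA X Y T) = 1 := by
    rw [← hcX1]
    simp only [cX, mul_inv_rev, mul_assoc]
    rw [((hcomm _ hdm X).eq), ((hcomm _ hdm _).inv_left.eq)]
    simp only [mul_assoc]
    rw [mul_inv_cancel, mul_one]
  have hcW' : cW X Y (T * rA X Y T) = 1 := by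
    rw [← hcX1, ← hWX]
    simp only [cW, mul_inv_rev, mul_assoc]
    generalize evW (ev2 X Y) wW = w
    rw [((hcomm _ hdm w).eq), ((hcomm _ hdm _).inv_left.eq)]
    simp only [mul_assoc]
    rw [mul_inv_cancel, mul_one]
  have hrA' : rA X Y (T * rA X Y T) = 1 := by
    generalize hd : rA X Y T = d at hd2 hdm ⊢
    have e : Y * ((evW (ev2 X Y) wA)⁻¹ * (T * d) * evW (ev2 X Y) wA) =
        Y * ((evW (ev2 X Y) wA)⁻¹ * T * evW (ev2 X Y) wA) * d := by
      simp only [mul_assoc]
      rw [(hcomm _ hdm _).eq]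
    rw [rA, e, ((hcomm _ hdm _).symm).mul_pow]
    rw [rA] at hd
    rw [hd, show 3 = 2 * 1 + 1 from rfl, pow_of_odd hd2, hd2]
  have hrB' : rB X Y (T * rA X Y T) = 1 := by
    rw [rB, pow_two]
    refine hinv (evW (ev4 X Y T0) conjV) X hXX ?_
    have e := conj_eq hs j_tail.1 (p := (conjV, [0], wG ++ [3] ++ tw wB)) (by simp [conjs])
    have eX : σ X = evW ev4J [0] := by rw [hX]; simp [ev4J, ev4, jx]
    simp only [map_mul, map_inv, hev, hev2, eX, hT, MonoidHom.mem_ker.1 hdm, mul_one]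
    rw [e, tw, evW_append, evW_append, evW_append, evW_append, ev4J_winv j_tail.1]
    have h3 : evW ev4J [3] = jt := by simp [ev4J, ev4, jt]
    have hw : ∀ w, (∀ a ∈ w, a < 3) → evW ev4J w = evW (ev2 jx jy) w :=
      ev4_eq_ev2 _ _ _
    rw [h3, hw wG (by decide), hw wB (by decide)]
  refine eq_bot_iff.2 (ker_le_of_rels hperf hc hX hY hT' bot_le ?_)
  refine extra_mem (FreeGroup.lift (gens X Y (T * rA X Y T))) _ ?_ ?_ ?_ ?_ ?_ ?_ <;>
    simp only [FreeGroup.lift_apply_of]
  · exact hXY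
  · exact Subgroup.mem_bot.2 hTT'
  · exact Subgroup.mem_bot.2 hcW'
  · exact Subgroup.mem_bot.2 hcX'
  · exact Subgroup.mem_bot.2 hrA'
  · exact Subgroup.mem_bot.2 hrB'

/-- The Schur multiplier of the presented fourth Janko group is trivial when it is finite and simple. -/
theorem multiplier [Finite J4] (hs : IsSimpleGroup J4) : Cfsg.HasCyclicSchurMultiplier J4 1 :=
  CfsgLib.SchurCover.hasCyclicSchurMultiplier_one_of_stem J4
    fun _ _ _ _ hσ => ker_eq_bot hs hσ.1 hσ.2.1 hσ.2.2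

end CfsgLib.J4Mult
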