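import Mathlib.Data.List.Basic

/-!
Generated words for the multiplier of the presented fourth Janko group. Letters: `0` is `x`, `1` is `y`,
`2` is the inverse of `y`, `3` is `t`.
-/
set_option autoImplicit false

namespace CfsgLib.J4Mult

/-- the inverse word -/
def winv (w : List ℕ) : List ℕ :=
  w.reverse.map fun a => match a with | 1 => 2 | 2 => 1 | a => a

/-- the word conjugating `t` inside the first long relator -/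
def wA : List ℕ := [1, 0, 2, 0, 1, 0, 2, 0]
/-- the word conjugating `t` inside the second long relator -/
def wB : List ℕ := [0, 1, 0, 1, 0, 1, 1, 0, 1, 0, 1, 0, 1, 0, 1, 0, 1, 0, 1, 1]
/-- the word in front of the second long relator -/
def wG : List ℕ := [1, 0, 1, 0, 1, 0, 1, 1, 0, 1, 0, 1, 0, 1, 1, 0, 1, 0, 1, 0, 1]
/-- the second generator of the stabiliser of `t` -/
def wW : List ℕ := [1, 0, 1, 0, 2, 0, 2, 0, 1, 0, 1, 0, 1]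
/-- the word in front of the second long relator, in the stabiliser letters -/
def sG : List ℕ := [0, 1, 1, 0, 1, 1, 0, 2, 0, 1, 0, 2, 0, 2, 0, 2, 0, 2, 0, 2, 0, 1, 0]
/-- a stabiliser word inverting the word in front of the second long relator -/
def sE : List ℕ := [0, 2, 0, 1, 0, 1, 1, 0, 2, 0, 1, 0]
/-- the image of `sE` seen from the conjugated `t` -/
def sE' : List ℕ := [0, 1, 0, 2, 0, 1, 0, 2, 0, 1, 1, 0, 1, 0, 1, 1]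
/-- a conjugator -/
def conjT : List ℕ := [1, 3, 1, 0, 1, 0, 1, 0, 1, 0, 1, 0, 2, 0, 1, 0, 1, 0, 2, 0, 1, 0, 1, 0, 2, 0, 1, 0, 1, 0, 2, 0, 1, 0, 1, 0, 2, 0, 1, 0, 1, 0, 1, 0, 2, 0, 2, 3, 2, 3, 1, 3, 1, 0, 1, 0, 1, 0, 1, 0, 1, 0, 2, 0, 1, 0, 1, 0, 2, 0, 1, 0, 1, 0, 2, 0, 1, 0, 1, 0, 2, 0, 1, 0, 1, 0, 2, 0, 1, 0, 1, 0, 1, 0, 2, 0, 2, 3, 2, 3, 1, 3, 1, 0, 1, 0]
/-- a conjugator -/
def conjXT : List ℕ := [1, 0, 2, 0, 2, 3, 2, 0, 1, 3, 1, 0, 1, 0, 2, 0, 3, 1, 0, 2, 0, 2, 3, 2]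
/-- a conjugator -/
def conjV : List ℕ := [3, 2, 3, 1, 3, 0, 1, 0, 2, 0, 3, 2, 3, 1, 3, 1, 0, 1, 0, 1, 0, 2, 0, 1, 0, 1, 0, 2, 0, 1, 0, 1, 0, 1, 3, 1, 0, 2, 0, 2, 0, 2, 0, 2, 0, 2, 0, 1, 0, 2, 0, 2, 0, 3, 0, 1, 0, 1, 0, 2, 0, 1, 0, 1, 0, 1, 0, 1, 0, 1, 0, 2, 3, 2, 3, 1, 3, 0, 1, 0, 2, 0, 3, 2, 3, 1, 3, 1, 0, 1, 0, 1, 0, 2, 0, 1, 0, 1, 0, 2, 0, 1, 0, 1, 0, 1, 3, 1, 0, 2, 0, 2, 0, 2, 0, 2, 0, 2, 0, 1, 0, 2, 0, 2, 0, 3, 0, 1, 0, 1, 0, 2, 0, 1, 0, 1, 0, 1, 0, 1, 0, 1, 0, 2, 3, 2, 3, 1, 3, 0, 1]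

end CfsgLib.J4Mult
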